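import Cfsg.Agent.Lib.InvChar.SporData.J3N0r2c38.F0
import Cfsg.Agent.Lib.InvChar.SporData.J3N0r2c38.F1
import Cfsg.Agent.Lib.InvChar.SporData.J3N0r2c38.F2
import Cfsg.Agent.Lib.InvChar.SporData.J3N0r2c38.F3
import Cfsg.Agent.Lib.InvChar.SporData.J3N0r2c38.F4

set_option autoImplicit false
set_option maxRecDepth 100000

namespace CfsgLib.InvChar.Coset.J3N0r2c38

theorem facts_ok : ∀ j < 262, cert.chkRun 128 (j * 128) (cert.just.get j) = true := by
  intro j hj
  rcases Nat.lt_or_ge j 64 with h0 | h0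
  · obtain ⟨i, rfl⟩ : ∃ i, j = 0 + i := ⟨j - 0, by omega⟩
    exact chkBlocks_get (D := cert) 64 0 chk_facts0 i (by omega)
  rcases Nat.lt_or_ge j 128 with h1 | h1
  · obtain ⟨i, rfl⟩ : ∃ i, j = 64 + i := ⟨j - 64, by omega⟩
    exact chkBlocks_get (D := cert) 64 64 chk_facts1 i (by omega)
  rcases Nat.lt_or_ge j 192 with h2 | h2
  · obtain ⟨i, rfl⟩ : ∃ i, j = 128 + i := ⟨j - 128, by omega⟩
    exact chkBlocks_get (D := cert) 64 128 chk_facts2 i (by omega)
  rcases Nat.lt_or_ge j 256 with h3 | h3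
  · obtain ⟨i, rfl⟩ : ∃ i, j = 192 + i := ⟨j - 192, by omega⟩
    exact chkBlocks_get (D := cert) 64 192 chk_facts3 i (by omega)
  rcases Nat.lt_or_ge j 262 with h4 | h4
  · obtain ⟨i, rfl⟩ : ∃ i, j = 256 + i := ⟨j - 256, by omega⟩
    exact chkBlocks_get (D := cert) 6 256 chk_facts4 i (by omega)
  omega

theorem goal_ok : cert.chkGoal 33463 8 0x82b60592b082b50592900000059180591705914 [3, 6, 7, 8] = true := by decide +kernel

/-- The goal word lies in every subgroup containing the subgroup words. -/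
theorem mem {G : Type*} [Group G] (s : ℕ → G) (hs : ∀ x, s x * s x = 1)
    (hR : ∀ r ∈ rels, wprod s r = 1) (H : Subgroup G) (hS : ∀ r ∈ subs, wprod s r ∈ H) :
    wprod s [3, 6, 7, 8] ∈ H :=
  mem_of_goal hs (fun r hr => holds_of_blocks hs hR hS 262 (by decide +kernel) facts_ok r hr) goal_ok

end CfsgLib.InvChar.Coset.J3N0r2c38
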